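import Groth.Prelude.Def_DRing2
import Mathlib.Algebra.Homology.DerivedCategory.TStructure
import Mathlib.Algebra.Homology.DerivedCategory.KProjective
import Mathlib.Algebra.Homology.DerivedCategory.HomologySequence
import Mathlib.CategoryTheory.Limits.ConcreteCategory.Basic
import Mathlib.Algebra.Category.ModuleCat.FilteredColimits
import Mathlib.Algebra.Category.ModuleCat.Projective
import Mathlib.RingTheory.Finiteness.Basic

/-! Maps from pseudo-coherent objects to filtered colimits of modules. -/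

set_option linter.style.haveILetI false

universe u

open CategoryTheory CategoryTheory.Category CategoryTheory.Limits
open CategoryTheory.Pretriangulated

attribute [local instance] HasDerivedCategory.standard

namespace Groth.Agent.H1ColimHom

variable {R : Type u} [CommRing R] {J : Type u} [SmallCategory J] [IsFiltered J]
  {F : J ⥤ ModuleCat.{u} R} {c : Cocone F}

theorem exists_factor (hc : IsColimit c) {P : ModuleCat.{u} R} [Module.Finite R P] [Module.Free R P]
    (ψ : P ⟶ c.pt) : ∃ (j : J) (φ : P ⟶ F.obj j), φ ≫ c.ι.app j = ψ := by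
  classical
  let b := Module.Free.chooseBasis R P
  choose jj y hy using fun i => Concrete.isColimit_exists_rep F hc (ψ (b i))
  obtain ⟨j, hj⟩ := IsFiltered.sup_objs_exists (Finset.univ.image jj)
  let g := fun i => (hj (Finset.mem_image_of_mem jj (Finset.mem_univ i))).some
  refine ⟨j, ModuleCat.ofHom (b.constr R fun i => F.map (g i) (y i)), ModuleCat.hom_ext (b.ext fun i => ?_)⟩
  show c.ι.app j (b.constr R (fun i => F.map (g i) (y i)) (b i)) = ψ (b i)
  rw [b.constr_basis, ← hy i]
  exact ConcreteCategory.congr_hom (c.w (g i)) (y i)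

theorem exists_eq_zero (hc : IsColimit c) {P : ModuleCat.{u} R} [Module.Finite R P]
    {j : J} (φ : P ⟶ F.obj j) (h : φ ≫ c.ι.app j = 0) : ∃ (j' : J) (g : j ⟶ j'), φ ≫ F.map g = 0 := by
  classical
  obtain ⟨n, s, hs⟩ := Module.Finite.exists_fin (R := R) (M := P)
  have key : ∀ t : Finset (Fin n), ∃ (j' : J) (g : j ⟶ j'), ∀ i ∈ t, F.map g (φ (s i)) = 0 := by
    intro t
    induction t using Finset.induction_on with
    | empty => exact ⟨j, 𝟙 j, fun i hi => absurd hi (Finset.notMem_empty i)⟩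
    | insert a t _ ih =>
      obtain ⟨j', g, hg⟩ := ih
      have h0 : c.ι.app j' (F.map g (φ (s a))) = c.ι.app j' (0 : F.obj j') := by
        rw [map_zero]
        exact (ConcreteCategory.congr_hom (c.w g) (φ (s a))).trans (ConcreteCategory.congr_hom h (s a))
      obtain ⟨k, f, f', hk⟩ := Concrete.isColimit_exists_of_rep_eq F hc _ _ h0
      rw [map_zero] at hk
      refine ⟨k, g ≫ f, fun i hi => ?_⟩
      rw [Functor.map_comp]
      show F.map f (F.map g (φ (s i))) = 0
      rcases Finset.mem_insert.1 hi with rfl | hi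
      · exact hk
      · rw [hg i hi, map_zero]
  obtain ⟨j', g, hg⟩ := key Finset.univ
  refine ⟨j', g, ModuleCat.hom_ext (LinearMap.ext_on_range hs fun i => ?_)⟩
  exact hg i (Finset.mem_univ i)

variable {E : CochainComplex (ModuleCat.{u} R) ℤ}

/-- A map into a module in degree `k` that factors through the differential is null homotopic. -/
theorem q_map_mkHomToSingle_comp_eq_zero {k : ℤ} {N : ModuleCat.{u} R} (h : E.X (k + 1) ⟶ N)
    (f : E ⟶ (HomologicalComplex.single (ModuleCat.{u} R) (ComplexShape.up ℤ) k).obj N)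
    (hf : f.f k = E.d k (k + 1) ≫ h ≫ (HomologicalComplex.singleObjXSelf (ComplexShape.up ℤ) k N).inv) :
    DerivedCategory.Q.map f = 0 := by
  let S := (HomologicalComplex.single (ModuleCat.{u} R) (ComplexShape.up ℤ) k).obj N
  let hh : ∀ i j, (ComplexShape.up ℤ).Rel j i → (E.X i ⟶ S.X j) := fun i j _ =>
    if hij : i = k + 1 ∧ j = k then
      eqToHom (by rw [hij.1]) ≫ h ≫ (HomologicalComplex.singleObjXSelf (ComplexShape.up ℤ) k N).inv ≫
        eqToHom (by rw [hij.2])
    else 0
  have e : f = Homotopy.nullHomotopicMap' hh := by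
    refine HomologicalComplex.to_single_hom_ext ?_
    rw [hf, Homotopy.nullHomotopicMap'_f (k₂ := k - 1) (k₀ := k + 1) (by simp) (by simp)]
    rw [show (S.d (k - 1) k) = 0 from HomologicalComplex.single_obj_d _ _ _ _ _, comp_zero, add_zero]
    simp [hh]
  have hq : (HomotopyCategory.quotient (ModuleCat.{u} R) (ComplexShape.up ℤ)).map f = 0 := by
    rw [e, ← Functor.map_zero (HomotopyCategory.quotient (ModuleCat.{u} R) (ComplexShape.up ℤ))]
    exact HomotopyCategory.eq_of_homotopy _ _ (Homotopy.nullHomotopy' hh)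
  rw [← cancel_mono ((DerivedCategory.quotientCompQhIso (ModuleCat.{u} R)).inv.app _), zero_comp,
    DerivedCategory.quotientCompQhIso_inv_naturality, hq, Functor.map_zero, comp_zero]

/-- Maps in the derived category out of a K-projective complex. -/
theorem q_map_surjective [E.IsKProjective] (L : CochainComplex (ModuleCat.{u} R) ℤ)
    (x : DerivedCategory.Q.obj E ⟶ DerivedCategory.Q.obj L) : ∃ f : E ⟶ L, DerivedCategory.Q.map f = x := by
  let i := DerivedCategory.quotientCompQhIso (ModuleCat.{u} R)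
  obtain ⟨g, hg⟩ := (CochainComplex.IsKProjective.Qh_map_bijective E
    ((HomotopyCategory.quotient _ _).obj L)).2 (i.hom.app E ≫ x ≫ i.inv.app L)
  obtain ⟨f, rfl⟩ := (HomotopyCategory.quotient (ModuleCat.{u} R) (ComplexShape.up ℤ)).map_surjective g
  refine ⟨f, (cancel_mono (i.inv.app L)).1 ?_⟩
  rw [DerivedCategory.quotientCompQhIso_inv_naturality, hg, Iso.inv_hom_id_app_assoc]

theorem q_map_eq_zero_imp [E.IsKProjective] {L : CochainComplex (ModuleCat.{u} R) ℤ}
    (f : E ⟶ L) (hf : DerivedCategory.Q.map f = 0) : Nonempty (Homotopy f 0) := by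
  let i := DerivedCategory.quotientCompQhIso (ModuleCat.{u} R)
  have : DerivedCategory.Qh.map ((HomotopyCategory.quotient (ModuleCat.{u} R) (ComplexShape.up ℤ)).map f) = 0 := by
    rw [← cancel_epi (i.inv.app E), ← DerivedCategory.quotientCompQhIso_inv_naturality, hf, zero_comp, comp_zero]
  refine ⟨HomotopyCategory.homotopyOfEq _ _ ?_⟩
  rw [Functor.map_zero]
  exact (CochainComplex.IsKProjective.Qh_map_bijective E _).1 (this.trans (Functor.map_zero _ _ _).symm)

variable [E.IsKProjective]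

theorem exists_rep (hc : IsColimit c) (k : ℤ) [Module.Finite R (E.X k)] [Module.Free R (E.X k)] [Module.Finite R (E.X (k - 1))]
    (x : DerivedCategory.Q.obj E ⟶ (DerivedCategory.singleFunctor (ModuleCat.{u} R) k).obj c.pt) :
    ∃ (j : J) (y : DerivedCategory.Q.obj E ⟶ (DerivedCategory.singleFunctor (ModuleCat.{u} R) k).obj (F.obj j)),
      y ≫ (DerivedCategory.singleFunctor (ModuleCat.{u} R) k).map (c.ι.app j) = x := by
  let S := HomologicalComplex.single (ModuleCat.{u} R) (ComplexShape.up ℤ) k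
  let sX := fun N : ModuleCat.{u} R => HomologicalComplex.singleObjXSelf (ComplexShape.up ℤ) k N
  let e : DerivedCategory.singleFunctor (ModuleCat.{u} R) k ≅ S ⋙ DerivedCategory.Q :=
    DerivedCategory.singleFunctorIsoCompQ (ModuleCat.{u} R) k
  obtain ⟨f, hf⟩ := q_map_surjective (S.obj c.pt) (x ≫ e.hom.app c.pt)
  obtain ⟨j, φ, hφ⟩ := exists_factor hc (f.f k ≫ (sX c.pt).hom)
  have hd : E.d (k - 1) k ≫ (f.f k ≫ (sX c.pt).hom) = 0 := by
    rw [← f.comm_assoc, show (S.obj c.pt).d (k - 1) k = 0 from HomologicalComplex.single_obj_d _ _ _ _ _,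
      zero_comp, comp_zero]
  obtain ⟨j', g, hg⟩ := exists_eq_zero hc (E.d (k - 1) k ≫ φ) (by rw [assoc, hφ, hd])
  let f' : E ⟶ S.obj (F.obj j') := HomologicalComplex.mkHomToSingle (φ ≫ F.map g) fun i hi => by
    obtain rfl : i = k - 1 := by simp at hi; omega
    rw [← assoc, hg]
  refine ⟨j', DerivedCategory.Q.map f' ≫ e.inv.app (F.obj j'), ?_⟩
  let ι : F.obj j' ⟶ c.pt := c.ι.app j'
  have h1 : e.inv.app (F.obj j') ≫ (DerivedCategory.singleFunctor (ModuleCat.{u} R) k).map ι =
      DerivedCategory.Q.map (S.map ι) ≫ e.inv.app c.pt := (e.inv.naturality ι).symm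
  have h2 : f' ≫ S.map ι = f := by
    refine HomologicalComplex.to_single_hom_ext ?_
    rw [HomologicalComplex.comp_f, HomologicalComplex.mkHomToSingle_f, HomologicalComplex.single_map_f_self]
    simp only [assoc, Iso.inv_hom_id_assoc]
    rw [← cancel_mono (sX c.pt).hom]
    simp only [sX, assoc, Iso.inv_hom_id, comp_id]
    exact ((congrArg (φ ≫ ·) (c.w g)).trans hφ)
  show (DerivedCategory.Q.map f' ≫ e.inv.app (F.obj j')) ≫ (DerivedCategory.singleFunctor (ModuleCat.{u} R) k).map ι = x
  rw [assoc, h1, ← Functor.map_comp_assoc, h2, hf, assoc]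
  exact (congrArg (x ≫ ·) (e.hom_inv_id_app c.pt)).trans (comp_id x)

theorem exists_eq_zero' (hc : IsColimit c) (k : ℤ) [Module.Finite R (E.X k)] [Module.Finite R (E.X (k + 1))] [Module.Free R (E.X (k + 1))]
    {j : J} (y : DerivedCategory.Q.obj E ⟶ (DerivedCategory.singleFunctor (ModuleCat.{u} R) k).obj (F.obj j))
    (h : y ≫ (DerivedCategory.singleFunctor (ModuleCat.{u} R) k).map (c.ι.app j) = 0) :
    ∃ (j' : J) (g : j ⟶ j'), y ≫ (DerivedCategory.singleFunctor (ModuleCat.{u} R) k).map (F.map g) = 0 := by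
  let S := HomologicalComplex.single (ModuleCat.{u} R) (ComplexShape.up ℤ) k
  let sX := fun N : ModuleCat.{u} R => HomologicalComplex.singleObjXSelf (ComplexShape.up ℤ) k N
  let e : DerivedCategory.singleFunctor (ModuleCat.{u} R) k ≅ S ⋙ DerivedCategory.Q :=
    DerivedCategory.singleFunctorIsoCompQ (ModuleCat.{u} R) k
  obtain ⟨ι, hι⟩ : ∃ ι : F.obj j ⟶ c.pt, ι = c.ι.app j := ⟨_, rfl⟩
  replace h : y ≫ (DerivedCategory.singleFunctor (ModuleCat.{u} R) k).map ι = 0 := hι ▸ h
  obtain ⟨f, hf⟩ := q_map_surjective (S.obj (F.obj j)) (y ≫ e.hom.app (F.obj j))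
  have hn : ∀ {N N' : ModuleCat.{u} R} (a : N ⟶ N'),
      (DerivedCategory.singleFunctor (ModuleCat.{u} R) k).map a ≫ e.hom.app N' =
        e.hom.app N ≫ DerivedCategory.Q.map (S.map a) := fun a => e.hom.naturality a
  have h0 : DerivedCategory.Q.map (f ≫ S.map ι) = 0 := by
    rw [Functor.map_comp, hf, assoc, ← hn, reassoc_of% h, zero_comp]
  obtain ⟨H⟩ := q_map_eq_zero_imp _ h0
  have hk : f.f k ≫ (sX (F.obj j)).hom ≫ ι = E.d k (k + 1) ≫ H.hom (k + 1) k ≫ (sX c.pt).hom := by
    have := H.comm k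
    rw [dNext_eq _ (show (ComplexShape.up ℤ).Rel k (k + 1) by simp),
      prevD_eq _ (show (ComplexShape.up ℤ).Rel (k - 1) k by simp),
      show (S.obj c.pt).d (k - 1) k = 0 from HomologicalComplex.single_obj_d _ _ _ _ _, comp_zero, add_zero,
      HomologicalComplex.zero_f, add_zero, HomologicalComplex.comp_f, HomologicalComplex.single_map_f_self] at this
    rw [← reassoc_of% this]
    simp [sX]
  obtain ⟨j₁, ψ, hψ⟩ := exists_factor hc (H.hom (k + 1) k ≫ (sX c.pt).hom)
  obtain ⟨l, a, a₁, -⟩ := IsFilteredOrEmpty.cocone_objs j j₁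
  obtain ⟨j', g, hg⟩ := exists_eq_zero hc
    (f.f k ≫ (sX (F.obj j)).hom ≫ F.map a - E.d k (k + 1) ≫ ψ ≫ F.map a₁) (by
      rw [Preadditive.sub_comp, sub_eq_zero]
      simp only [assoc, Cocone.w, ← hι]
      rw [hk, hψ])
  refine ⟨j', a ≫ g, (cancel_mono (e.hom.app (F.obj j'))).1 ?_⟩
  rw [assoc, hn, ← assoc, ← hf, ← Functor.map_comp, zero_comp]
  refine q_map_mkHomToSingle_comp_eq_zero (ψ ≫ F.map a₁ ≫ F.map g) _ ?_
  rw [Preadditive.sub_comp, sub_eq_zero] at hg
  rw [HomologicalComplex.comp_f, HomologicalComplex.single_map_f_self, Functor.map_comp]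
  simp only [assoc] at hg ⊢
  simpa [sX, S] using congrArg (fun t => t ≫ (sX (F.obj j')).inv) hg

theorem colimHom_of_pseudoCoherent {m : ℤ} {K : Dual.D R} (hK : DRing.IsPseudoCoherent R m K) (hc : IsColimit c) (k : ℤ) :
    (m < k → ∀ x : K ⟶ (DerivedCategory.singleFunctor (ModuleCat.{u} R) k).obj c.pt,
      ∃ (j : J) (y : K ⟶ (DerivedCategory.singleFunctor (ModuleCat.{u} R) k).obj (F.obj j)),
        y ≫ (DerivedCategory.singleFunctor (ModuleCat.{u} R) k).map (c.ι.app j) = x) ∧
    (m ≤ k → ∀ (j : J) (y : K ⟶ (DerivedCategory.singleFunctor (ModuleCat.{u} R) k).obj (F.obj j)),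
      y ≫ (DerivedCategory.singleFunctor (ModuleCat.{u} R) k).map (c.ι.app j) = 0 →
      ∃ (j' : J) (g : j ⟶ j'), y ≫ (DerivedCategory.singleFunctor (ModuleCat.{u} R) k).map (F.map g) = 0) := by
  obtain ⟨E, a, b, α, hz, hfree, hi, he⟩ := hK
  haveI : ∀ n, Module.Finite R (E.X n) := fun n => (hfree n).1
  haveI : ∀ n, Module.Free R (E.X n) := fun n => (hfree n).2
  haveI : ∀ n, Projective (E.X n) := fun n =>
    ModuleCat.projective_of_free (Module.Free.chooseBasis R (E.X n))
  haveI : E.IsStrictlyLE b := (CochainComplex.isStrictlyLE_iff _ _).2 fun i h => hz i (Or.inr h)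
  haveI : E.IsKProjective := CochainComplex.isKProjective_of_projective E b
  obtain ⟨C, p, δ, hT⟩ := distinguished_cocone_triangle α
  have hC : C.IsLE (m - 1) := by
    rw [DerivedCategory.isLE_iff]
    intro i hi'
    have hep : Epi ((DerivedCategory.homologyFunctor (ModuleCat.{u} R) i).map α) := by
      rcases eq_or_lt_of_le (show m ≤ i by omega) with rfl | h
      · exact he
      · haveI := hi i h; infer_instance
    haveI := hi (i + 1) (by omega)
    refine ShortComplex.Exact.isZero_of_both_zeros (DerivedCategory.HomologySequence.exact₃ _ hT i (i + 1)) ?_ ?_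
    · exact (DerivedCategory.HomologySequence.epi_homologyMap_mor₁_iff _ hT i).1 hep
    · exact (DerivedCategory.HomologySequence.mono_homologyMap_mor₁_iff _ hT i (i + 1)).1
        (inferInstanceAs (Mono ((DerivedCategory.homologyFunctor (ModuleCat.{u} R) (i + 1)).map α)))
  have hinj : m ≤ k → ∀ (N : ModuleCat.{u} R) (y : K ⟶ (DerivedCategory.singleFunctor (ModuleCat.{u} R) k).obj N),
      α ≫ y = 0 → y = 0 := fun hk N y hy => by
    obtain ⟨g, rfl⟩ := Triangle.yoneda_exact₂ _ hT y hy
    haveI : (Triangle.mk α p δ).obj₃.IsLE (m - 1) := hC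
    rw [show g = 0 from DerivedCategory.TStructure.t.zero g (m - 1) k (by omega)]
    exact comp_zero
  refine ⟨fun hk x => ?_, fun hk j y hy => ?_⟩
  · obtain ⟨j, z, hz'⟩ := exists_rep hc k (α ≫ x)
    have hC' : (C⟦(-1 : ℤ)⟧).IsLE m := DerivedCategory.TStructure.t.isLE_shift C (m - 1) (-1) m (by omega)
    haveI : (Triangle.mk α p δ).invRotate.obj₁.IsLE m := hC'
    obtain ⟨y, hy⟩ := Triangle.yoneda_exact₂ _ (inv_rot_of_distTriang _ hT) z
      (DerivedCategory.TStructure.t.zero _ m k hk)
    refine ⟨j, y, ?_⟩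
    refine sub_eq_zero.1 (hinj hk.le _ _ ?_)
    rw [Preadditive.comp_sub, ← assoc, sub_eq_zero]
    exact (congrArg (fun t => t ≫ _) hy.symm).trans hz'
  · obtain ⟨j', g, hg⟩ := exists_eq_zero' hc k (α ≫ y) (by rw [assoc, hy, comp_zero])
    exact ⟨j', g, hinj hk _ _ (by rw [← assoc]; exact hg)⟩

end Groth.Agent.H1ColimHom
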